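import Cfsg.Agent.Leech.Pairs
import Cfsg.Prelude.Def_Spor_Conway

/-!
# The second Conway group in dimension 23 over the field with 13 elements
-/

set_option autoImplicit false
set_option linter.style.haveILetI false

namespace Cfsg.Lib.Leech.ModThirteen

open Cfsg Cfsg.Lib.Golay Matrix

instance : Fact (Nat.Prime 13) := ⟨by decide⟩

/-- Reduction modulo thirteen. -/
def red (x : leechLattice) : GolayPt → ZMod 13 := fun i => ((x : GolayPt → ℤ) i : ZMod 13)

theorem eight_expand (g : Co0) (x : leechLattice) (i : GolayPt) :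
    8 * ((g • x : leechLattice) : GolayPt → ℤ) i =
      ∑ j, (x : GolayPt → ℤ) j * ((g • e8 j : leechLattice) : GolayPt → ℤ) i := by
  have h := congrArg (fun y : leechLattice => (y : GolayPt → ℤ) i) (congrArg (fun y => g • y) (eight_smul x))
  simp only [smul_zsmul', smul_sum', AddSubgroup.val_finsetSum, Finset.sum_apply, AddSubgroup.coe_zsmul,
    Pi.smul_apply, smul_eq_mul] at h
  exact h

/-- The matrix of an automorphism modulo thirteen (`5` is the inverse of `8`). -/
def mat (g : Co0) : Matrix GolayPt GolayPt (ZMod 13) := Matrix.of fun i j => 5 * red (g • e8 j) i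

theorem mat_red (g : Co0) (x : leechLattice) : mat g *ᵥ red x = red (g • x) := by
  funext i
  have h := congrArg (Int.cast : ℤ → ZMod 13) (eight_expand g x i)
  push_cast at h
  calc (mat g *ᵥ red x) i = 5 * ∑ j, red x j * red (g • e8 j) i := by
        simp only [Matrix.mulVec, dotProduct, mat, Matrix.of_apply, Finset.mul_sum]
        exact Finset.sum_congr rfl fun j _ => by ring
    _ = 5 * (8 * red (g • x) i) := by rw [show ((8 : ZMod 13) * red (g • x) i) = _ from h]; rfl
    _ = red (g • x) i := by
        rw [← mul_assoc, show (5 : ZMod 13) * 8 = 1 by decide, one_mul]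

theorem red_e8 (j : GolayPt) : red (e8 j) = Pi.single j 8 := by
  funext i
  rcases eq_or_ne i j with rfl | h <;> simp [red, e8, *]

theorem ext_red {A B : Matrix GolayPt GolayPt (ZMod 13)} (h : ∀ x, A *ᵥ red x = B *ᵥ red x) : A = B := by
  ext i j
  have := congrFun (h (e8 j)) i
  rw [red_e8, Matrix.mulVec_single, Matrix.mulVec_single] at this
  have h8 : (8 : ZMod 13) ≠ 0 := by decide
  simpa [Matrix.col, h8] using this

theorem mat_one : mat 1 = 1 := ext_red fun x => by rw [mat_red, one_smul, Matrix.one_mulVec]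

theorem mat_mul (g h : Co0) : mat (g * h) = mat g * mat h :=
  ext_red fun x => by rw [← Matrix.mulVec_mulVec, mat_red, mat_red, mat_red, mul_smul]

theorem mat_faithful {g : Co0} (h : mat g = 1) : g = 1 := by
  have he : ∀ i, g • e8 i = (1 : ℤ) • e8 i := fun i => by
    rw [one_smul]
    have hr : red (g • e8 i) = red (e8 i) := by rw [← mat_red, h, Matrix.one_mulVec]
    have hn : ∑ j, ((g • e8 i : leechLattice) : GolayPt → ℤ) j ^ 2 = 64 := (g.2.2 (e8 i)).trans (sqNorm_e8 i)
    have hb : ∀ j, -8 ≤ ((g • e8 i : leechLattice) : GolayPt → ℤ) j ∧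
        ((g • e8 i : leechLattice) : GolayPt → ℤ) j ≤ 8 := fun j => by
      have := Finset.single_le_sum (f := fun j => ((g • e8 i : leechLattice) : GolayPt → ℤ) j ^ 2)
        (fun j _ => sq_nonneg _) (Finset.mem_univ j)
      constructor <;> nlinarith
    have hd : ∀ j, (13 : ℤ) ∣ ((g • e8 i : leechLattice) : GolayPt → ℤ) j - (e8 i : GolayPt → ℤ) j := fun j => by
      have := congrFun hr j
      simp only [red] at this
      exact_mod_cast (ZMod.intCast_eq_intCast_iff_dvd_sub _ _ 13).mp this.symm
    have h0 : ∀ j, j ≠ i → ((g • e8 i : leechLattice) : GolayPt → ℤ) j = 0 := fun j hj => by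
      have h1 := hb j
      have h2 := hd j
      rw [show (e8 i : GolayPt → ℤ) j = 0 from Pi.single_eq_of_ne hj _] at h2
      omega
    refine Subtype.ext (funext fun j => ?_)
    rcases eq_or_ne j i with rfl | hj
    · have h2 := hd j
      rw [show (e8 j : GolayPt → ℤ) j = 8 from Pi.single_eq_same _ _] at h2 ⊢
      rw [Finset.sum_eq_single j (fun k _ hk => by rw [h0 k hk]; rfl) (by simp)] at hn
      have h1 : ((g • e8 j : leechLattice) : GolayPt → ℤ) j = 8 ∨ ((g • e8 j : leechLattice) : GolayPt → ℤ) j = -8 :=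
        sq_eq_sq_iff_eq_or_eq_neg.mp (show ((g • e8 j : leechLattice) : GolayPt → ℤ) j ^ 2 = (8 : ℤ) ^ 2 by
          simpa using hn)
      omega
    · rw [h0 j hj]
      simp [e8, Pi.single_eq_of_ne hj]
  apply Subtype.ext
  exact Equiv.ext fun v => (eq_of_e8 he v).trans (one_smul ℤ v)

/-- The linear functional given by the fixed vector. -/
def fU : (GolayPt → ZMod 13) →ₗ[ZMod 13] ZMod 13 where
  toFun z := ∑ i, red Spor.leechU i * z i
  map_add' a b := by simp [mul_add, Finset.sum_add_distrib]
  map_smul' c a := by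
    simp only [Pi.smul_apply, smul_eq_mul, RingHom.id_apply, Finset.mul_sum]
    exact Finset.sum_congr rfl fun i _ => mul_left_comm _ _ _

theorem fU_red (x : leechLattice) : fU (red x) = (dotInt (Spor.leechU : GolayPt → ℤ) x : ZMod 13) := by
  simp [fU, red, dotInt]

theorem fU_self : fU (red Spor.leechU) = 6 := by decide +kernel

theorem mat_fU {g : Co0} (hg : g • Spor.leechU = Spor.leechU) (z : GolayPt → ZMod 13) :
    fU (mat g *ᵥ z) = fU z := by
  have key : fU.comp (mat g).mulVecLin = fU := by
    refine LinearMap.pi_ext' fun j => LinearMap.ext_ring ?_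
    have h : fU (mat g *ᵥ red (e8 j)) = fU (red (e8 j)) := by
      rw [mat_red, fU_red, fU_red]
      congr 1
      conv_lhs => rw [← hg]
      exact dot_smul g _ _
    rw [red_e8, show (Pi.single j (8 : ZMod 13) : GolayPt → ZMod 13) = (8 : ZMod 13) • Pi.single j 1 by
      rw [← Pi.single_smul, smul_eq_mul, mul_one], Matrix.mulVec_smul, map_smul, map_smul] at h
    simpa using smul_right_injective (ZMod 13) (show (8 : ZMod 13) ≠ 0 by decide) h
  exact LinearMap.congr_fun key z

/-- The orthogonal hyperplane. -/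
def hyper : Submodule (ZMod 13) (GolayPt → ZMod 13) := LinearMap.ker fU

theorem finrank_hyper : Module.finrank (ZMod 13) hyper = 23 := by
  have h := LinearMap.finrank_range_add_finrank_ker fU
  have hr : LinearMap.range fU = ⊤ := LinearMap.range_eq_top.mpr fun c =>
    ⟨(c * 6⁻¹) • red Spor.leechU, by rw [map_smul, fU_self, smul_eq_mul, inv_mul_cancel_right₀ (by decide)]⟩
  rw [hr, finrank_top, Module.finrank_self, Module.finrank_pi, Fintype.card_option, ZMod.card] at h
  exact Nat.add_left_cancel h

/-- The element of the lattice group. -/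
def toCo0 (g : Spor.Co2) : Co0 := ⟨g.1, g.2.1⟩

theorem toCo0_fix (g : Spor.Co2) : toCo0 g • Spor.leechU = Spor.leechU := g.2.2

/-- The action on the hyperplane. -/
noncomputable def act : Spor.Co2 →* Module.End (ZMod 13) hyper where
  toFun g := (mat (toCo0 g)).mulVecLin.restrict (p := hyper) (q := hyper) fun z hz => by
    simp only [hyper, LinearMap.mem_ker] at hz ⊢
    exact (mat_fU (toCo0_fix g) z).trans hz
  map_one' := by
    refine LinearMap.ext fun z => Subtype.ext ?_
    show mat (toCo0 1) *ᵥ z.1 = z.1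
    rw [show toCo0 1 = 1 from rfl, mat_one, Matrix.one_mulVec]
  map_mul' g h := by
    refine LinearMap.ext fun z => Subtype.ext ?_
    show mat (toCo0 (g * h)) *ᵥ z.1 = mat (toCo0 g) *ᵥ (mat (toCo0 h) *ᵥ z.1)
    rw [show toCo0 (g * h) = toCo0 g * toCo0 h from rfl, mat_mul, Matrix.mulVec_mulVec]

theorem act_injective : Function.Injective act := by
  refine (injective_iff_map_eq_one act).mpr fun g hg => ?_
  have h1 : mat (toCo0 g) = 1 := by
    refine Matrix.ext_of_mulVec_single fun j => ?_
    set z : GolayPt → ZMod 13 := Pi.single j 1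
    set c : ZMod 13 := fU z * 6⁻¹
    have hw : z - c • red Spor.leechU ∈ hyper := by
      simp [hyper, fU_self, c, inv_mul_cancel_right₀ (show (6 : ZMod 13) ≠ 0 by decide)]
    have h2 := congrArg Subtype.val (LinearMap.congr_fun hg ⟨_, hw⟩)
    change mat (toCo0 g) *ᵥ (z - c • red Spor.leechU) = z - c • red Spor.leechU at h2
    rw [Matrix.mulVec_sub, Matrix.mulVec_smul, mat_red, toCo0_fix, sub_left_inj] at h2
    rw [h2, Matrix.one_mulVec]
  have := mat_faithful h1
  exact Subtype.ext (show g.1 = 1 from congrArg Subtype.val this)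

theorem exists_embedding : ∃ f : Spor.Co2 →* GL (Fin 23) (ZMod 13), Function.Injective f := by
  let b := Module.finBasisOfFinrankEq (ZMod 13) hyper finrank_hyper
  let m : Spor.Co2 →* Matrix (Fin 23) (Fin 23) (ZMod 13) :=
    (LinearMap.toMatrixAlgEquiv b).toAlgHom.toRingHom.toMonoidHom.comp act
  refine ⟨m.toHomUnits, fun g h e => act_injective ?_⟩
  exact (LinearMap.toMatrixAlgEquiv b).injective (congrArg Units.val e)

end Cfsg.Lib.Leech.ModThirteen
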